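import Cfsg.Agent.Lib.Spectrum.FiveOrbitsDirect
import Cfsg.Agent.Lib.CIT.MainSz
import Cfsg.Agent.Lib.Sz.Torus

/-!
# At most one composite element order: the known groups

Which groups `PSL(2, q)` and `Sz(q)` have at most one composite element order.
-/

set_option autoImplicit false
set_option linter.style.haveILetI false
set_option linter.unusedSectionVars false

namespace Cfsg.Agent.OneComposite

open scoped MatrixGroups

universe u

variable {G : Type u} [Group G] [Finite G]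

/-- At most one element order is composite. -/
def Sub1 (G : Type*) [Group G] : Prop :=
  {n : ℕ | n ∈ Set.range (orderOf : G → ℕ) ∧ 1 < n ∧ ¬ n.Prime}.Subsingleton

/-- The list. -/
def Concl (G : Type u) [Group G] : Prop :=
    (Nat.card G).Prime ∨
    (∃ (F : Type) (_ : Field F) (_ : Fintype F), (Fintype.card F = 5 ∨ Fintype.card F = 7 ∨ Fintype.card F = 8 ∨ Fintype.card F = 9 ∨
        Fintype.card F = 11 ∨ Fintype.card F = 13 ∨ Fintype.card F = 16) ∧ Nonempty (G ≃* Matrix.ProjectiveSpecialLinearGroup (Fin 2) F)) ∨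
    (∃ (F : Type) (_ : Field F) (_ : Fintype F), Fintype.card F = 4 ∧ Nonempty (G ≃* Matrix.ProjectiveSpecialLinearGroup (Fin 3) F)) ∨
    (∃ (F : Type) (_ : Field F) (_ : Fintype F), Fintype.card F = 8 ∧ Nonempty (G ≃* ↥(Cfsg.Lie.Sz F 4))) ∨
    (∃ (F : Type) (_ : Field F) (_ : Fintype F), ∃ n r s : ℕ, r.Prime ∧ s.Prime ∧ 3 ^ n - 1 = 2 * r ∧ 3 ^ n + 1 = 4 * s ∧
        Fintype.card F = 3 ^ n ∧ Nonempty (G ≃* Matrix.ProjectiveSpecialLinearGroup (Fin 2) F)) ∨
    (∃ (F : Type) (_ : Field F) (_ : Fintype F), ∃ n r : ℕ, (2 ^ n - 1).Prime ∧ r.Prime ∧ 2 ^ n + 1 = 3 * r ∧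
        Fintype.card F = 2 ^ n ∧ Nonempty (G ≃* Matrix.ProjectiveSpecialLinearGroup (Fin 2) F))

theorem Sub1.eq (h : Sub1 G) {x y : G} (hx : 1 < orderOf x) (hx' : ¬ (orderOf x).Prime)
    (hy : 1 < orderOf y) (hy' : ¬ (orderOf y).Prime) : orderOf x = orderOf y :=
  h ⟨⟨x, rfl⟩, hx, hx'⟩ ⟨⟨y, rfl⟩, hy, hy'⟩

theorem Sub1.eq_of_iso {H : Type*} [Group H] (h : Sub1 G) (e : G ≃* H) {m n : ℕ}
    (hm : ∃ x : H, orderOf x = m) (hn : ∃ y : H, orderOf y = n) (hm1 : 1 < m) (hm' : ¬ m.Prime)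
    (hn1 : 1 < n) (hn' : ¬ n.Prime) : m = n := by
  obtain ⟨x, hx⟩ := hm
  obtain ⟨y, hy⟩ := hn
  exact h ⟨⟨e.symm x, by rw [e.symm.orderOf_eq, hx]⟩, hm1, hm'⟩
    ⟨⟨e.symm y, by rw [e.symm.orderOf_eq, hy]⟩, hn1, hn'⟩

/-- In `PSL(2,q)` composite divisors of the torus orders are equal. -/
theorem torus_eq {F : Type} [Field F] [Fintype F] (h : Sub1 G) (e : G ≃* PSL(2, F))
    (h4 : 4 ≤ Fintype.card F) {d : ℕ} (hd : Nat.gcd 2 (Fintype.card F - 1) = d) {m n : ℕ}
    (hm : m ∣ (Fintype.card F - 1) / d ∨ m ∣ (Fintype.card F + 1) / d)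
    (hn : n ∣ (Fintype.card F - 1) / d ∨ n ∣ (Fintype.card F + 1) / d)
    (hm1 : 1 < m) (hm' : ¬ m.Prime) (hn1 : 1 < n) (hn' : ¬ n.Prime) : m = n := by
  obtain ⟨p, hchar⟩ := CharP.exists F
  haveI := hchar
  obtain ⟨k, hp, hk⟩ := FiniteField.card F p
  haveI : Fact p.Prime := ⟨hp⟩
  exact h.eq_of_iso e (FiveOrbits.exists_orders h4 p m (Or.inr (hd ▸ hm)))
    (FiveOrbits.exists_orders h4 p n (Or.inr (hd ▸ hn))) hm1 hm' hn1 hn'

/-- `PSL(2,q)` with `q ≤ 3` is not a noncommutative simple group. -/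
theorem four_le [IsSimpleGroup G] (hG : ¬ IsMulCommutative G) {F : Type} [Field F] [Fintype F]
    (e : G ≃* PSL(2, F)) : 4 ≤ Fintype.card F := by
  by_contra hlt
  have h2 := Fintype.one_lt_card (α := F)
  have hc := PSL2.card_PSL (F := F)
  have hcard : Nat.card G = Nat.card PSL(2, F) := Nat.card_congr e.toEquiv
  rcases (show Fintype.card F = 2 ∨ Fintype.card F = 3 by omega) with h | h <;>
    rw [h] at hc <;> norm_num at hc <;>
    [have := SmallSimple.card_eq_sixty hG (by omega); have := SmallSimple.card_eq_sixty hG (by omega)] <;>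
    omega

theorem concl_five [IsSimpleGroup G] {F : Type} [Field F] [Fintype F] (hF : Fintype.card F = 4)
    (e : G ≃* PSL(2, F)) : Concl G := by
  haveI : Fact (Nat.Prime 5) := ⟨by norm_num⟩
  obtain ⟨f⟩ := PSL2.psl_four_five_iso (F := F) (Or.inl hF)
  obtain ⟨g⟩ := PSL2.psl_four_five_iso (F := ZMod 5) (Or.inr (ZMod.card 5))
  exact Or.inr (Or.inl ⟨ZMod 5, inferInstance, inferInstance, Or.inl (ZMod.card 5),
    ⟨e.trans (f.trans g.symm)⟩⟩)

/-- `PSL(2, 2^n)`. -/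
theorem psl_even [IsSimpleGroup G] (h : Sub1 G) (hG : ¬ IsMulCommutative G) {F : Type} [Field F]
    [iFt : Fintype F] (e : G ≃* PSL(2, F)) {n : ℕ} (hF : Fintype.card F = 2 ^ n) : Concl G := by
  have h4 := four_le hG e
  have hn2 : 2 ≤ n := by
    by_contra hlt
    have := Nat.pow_le_pow_right two_pos (show n ≤ 1 by omega)
    omega
  rcases eq_or_ne n 2 with rfl | hne
  · exact concl_five (by rw [hF]; norm_num) e
  have h2n : 2 ∣ 2 ^ n := dvd_pow_self 2 (by omega)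
  have h8 : 8 ≤ 2 ^ n := le_trans (by norm_num) (Nat.pow_le_pow_right two_pos (show 3 ≤ n by omega))
  have hd : Nat.gcd 2 (Fintype.card F - 1) = 1 := Nat.coprime_two_left.2 (by
    rw [hF]; obtain ⟨j, hj⟩ := h2n; exact ⟨j - 1, by omega⟩)
  have key : ∀ m k : ℕ, (m ∣ 2 ^ n - 1 ∨ m ∣ 2 ^ n + 1) → (k ∣ 2 ^ n - 1 ∨ k ∣ 2 ^ n + 1) →
      1 < m → ¬ m.Prime → 1 < k → ¬ k.Prime → m = k := fun m k hm hk => by
    refine torus_eq h e h4 hd ?_ ?_
    · simpa [hF] using hm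
    · simpa [hF] using hk
  rcases Nat.even_or_odd n with ⟨j, hj⟩ | ⟨j, hj⟩
  · -- `n` even: `q = 16`
    set w := 2 ^ j with hw
    have hq : 2 ^ n = w * w := by rw [hw, hj, pow_add]
    have hw3 : 4 ≤ w := le_trans (by norm_num) (Nat.pow_le_pow_right two_pos (show 2 ≤ j by omega))
    have hfac : 2 ^ n - 1 = (w - 1) * (w + 1) := by
      obtain ⟨i, hi⟩ : ∃ i, w = i + 1 := ⟨w - 1, by omega⟩
      rw [hq, hi, Nat.add_sub_cancel]
      simp only [Nat.mul_add, Nat.add_mul, one_mul, mul_one]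
      omega
    have hcomp : ¬ (2 ^ n - 1).Prime := by
      rw [hfac]; exact Nat.not_prime_mul (by omega) (by omega)
    have hp : ∀ m, m ∣ 2 ^ n - 1 → 1 < m → m < 2 ^ n - 1 → m.Prime := fun m hm h1 h2 => by
      by_contra hmp
      have := key m _ (Or.inl hm) (Or.inl dvd_rfl) h1 hmp (by omega) hcomp
      omega
    have hlt1 : w + 1 < 2 ^ n - 1 := by rw [hfac]; exact lt_mul_left (by omega) (by omega)
    have hm1 := hp (w - 1) (hfac ▸ dvd_mul_right _ _) (by omega) (by omega)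
    have hm2 := hp (w + 1) (hfac ▸ dvd_mul_left _ _) (by omega) hlt1
    have hw3' : w % 3 = 1 ∨ w % 3 = 2 := by
      have h3 : ¬ 3 ∣ w := fun h => by
        have := Nat.prime_three.dvd_of_dvd_pow h
        norm_num at this
      omega
    have hw4 : w = 4 := by
      rcases hw3' with h' | h'
      · have := (Nat.prime_dvd_prime_iff_eq Nat.prime_three hm1).1 (by omega)
        omega
      · have := (Nat.prime_dvd_prime_iff_eq Nat.prime_three hm2).1 (by omega)
        omega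
    refine Or.inr (Or.inl ⟨F, inferInstance, iFt, ?_, ⟨e⟩⟩)
    rw [hF, hq, hw4]; norm_num
  · -- `n` odd
    have h3 : 3 ∣ 2 ^ n + 1 := by
      have h := Nat.pow_mod 4 j 3
      norm_num at h
      rw [hj, pow_add, pow_mul]
      norm_num
      omega
    obtain ⟨r, hr⟩ := h3
    have hcomp : ¬ (2 ^ n + 1).Prime := by
      rw [hr]; exact Nat.not_prime_mul (by norm_num) (by omega)
    have hM : (2 ^ n - 1).Prime := by
      by_contra hMp
      have := key _ _ (Or.inl dvd_rfl) (Or.inr dvd_rfl) (by omega) hMp (by omega) hcomp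
      omega
    have hrp : r.Prime := by
      by_contra hrp
      have := key _ _ (Or.inr ⟨3, by rw [hr, mul_comm]⟩) (Or.inr dvd_rfl) (show 1 < r by omega) hrp
        (by omega) hcomp
      omega
    exact Or.inr (Or.inr (Or.inr (Or.inr (Or.inr
      ⟨F, inferInstance, iFt, n, r, hM, hrp, hr, hF, ⟨e⟩⟩))))

/-- The groups `PSL(2, q)` of the CIT list. -/
theorem psl_cit [IsSimpleGroup G] (h : Sub1 G) (hG : ¬ IsMulCommutative G) {F : Type} [Field F]
    [iFt : Fintype F] (e : G ≃* PSL(2, F))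
    (hq : Fintype.card F = 9 ∨ (∃ n : ℕ, Fintype.card F = 2 ^ n) ∨
      ((Fintype.card F).Prime ∧ ∃ k : ℕ, Fintype.card F = 2 ^ k + 1 ∨ Fintype.card F + 1 = 2 ^ k)) :
    Concl G := by
  rcases hq with h9 | ⟨n, hn⟩ | ⟨hqp, k, hk⟩
  · exact Or.inr (Or.inl ⟨F, inferInstance, iFt, by omega, ⟨e⟩⟩)
  · exact psl_even h hG e hn
  have h4 := four_le hG e
  by_cases hk3 : k ≤ 3
  · have h9 : Fintype.card F ≠ 9 := fun e => absurd (e ▸ hqp) (by norm_num)
    have hk' : Fintype.card F = 5 ∨ Fintype.card F = 7 := by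
      interval_cases k <;> simp only [pow_zero, pow_one, Nat.reducePow] at hk <;> omega
    exact Or.inr (Or.inl ⟨F, inferInstance, iFt, by omega, ⟨e⟩⟩)
  exfalso
  obtain ⟨i, rfl⟩ : ∃ i, k = i + 4 := ⟨k - 4, by omega⟩
  have hpow : 2 ^ (i + 4) = 2 * (8 * 2 ^ i) := by rw [pow_add]; norm_num; omega
  have hd : Nat.gcd 2 (Fintype.card F - 1) = 2 := Nat.gcd_eq_left (by omega)
  have hdvd : ∀ m, m ∣ 8 →
      m ∣ (Fintype.card F - 1) / 2 ∨ m ∣ (Fintype.card F + 1) / 2 := fun m hm => by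
    rcases hk with hk | hk
    · exact Or.inl (hm.trans ⟨2 ^ i, by omega⟩)
    · exact Or.inr (hm.trans ⟨2 ^ i, by omega⟩)
  have := torus_eq h e h4 hd (hdvd 4 (by norm_num)) (hdvd 8 dvd_rfl) (by norm_num) (by norm_num)
    (by norm_num) (by norm_num)
  omega

/-- `Sz(q)` only for `q = 8`. -/
theorem sz_case (h : Sub1 G) {F : Type} [Field F] [iFt : Fintype F] {m : ℕ} (hm : 1 ≤ m)
    (hF : Fintype.card F = 2 ^ (2 * m + 1)) (e : G ≃* Cfsg.Lie.Sz F (2 ^ (m + 1))) : Concl G := by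
  rcases eq_or_ne m 1 with rfl | hm1
  · exact Or.inr (Or.inr (Or.inr (Or.inl ⟨F, inferInstance, iFt, by rw [hF]; norm_num,
      ⟨by simpa using e⟩⟩)))
  exfalso
  set f := e.trans (SZ.szEquiv hm hF).symm
  set q := 2 ^ (2 * m + 1) with hq
  set r := 2 ^ (m + 1) with hr
  have hrq : r * r = 2 * q := by rw [hq, hr, ← pow_add, ← pow_succ']; congr 1; omega
  have hq32 : 32 ≤ q := le_trans (by norm_num) (Nat.pow_le_pow_right two_pos (show 5 ≤ 2 * m + 1 by omega))
  have h4r : 4 * r ≤ q := by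
    rw [hq, hr, show (4 : ℕ) = 2 ^ 2 from rfl, ← pow_add]
    exact Nat.pow_le_pow_right two_pos (by omega)
  have hprod : (q + r + 1) * (q - r + 1) = q ^ 2 + 1 := by
    obtain ⟨d, hd⟩ := Nat.exists_eq_add_of_le (show r ≤ q by omega)
    rw [show q - r + 1 = d + 1 by omega, hd]
    nlinarith [hrq, hd]
  have h5 : 5 ∣ q ^ 2 + 1 := by
    rw [hq, ← pow_mul, show (2 * m + 1) * 2 = 4 * m + 2 by ring, pow_add, pow_mul]
    have h1 := Nat.pow_mod 16 m 5
    norm_num at h1 ⊢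
    omega
  have key : ∀ k, (k = q + r + 1 ∨ k = q - r + 1) → 5 ∣ k → False := fun k hk h5k => by
    obtain ⟨U, hU, hUc, -⟩ := SZ.exists_torus hm hF (k := k) hk
    haveI := hU
    obtain ⟨z, hz⟩ := IsCyclic.exists_ofOrder_eq_natCard (α := U)
    have hkp : ¬ k.Prime := fun hp => by
      have := (Nat.prime_dvd_prime_iff_eq (by norm_num) hp).1 h5k
      omega
    have := h.eq_of_iso f ⟨(z : Cfsg.Sz F m), by rw [Subgroup.orderOf_coe, hz, hUc]⟩
      (FiveOrbits.sz_four hF) (by omega) hkp (by norm_num) (by norm_num)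
    omega
  rw [← hprod] at h5
  rcases (Nat.Prime.dvd_mul (by norm_num)).1 h5 with h5' | h5'
  · exact key _ (Or.inl rfl) h5'
  · exact key _ (Or.inr rfl) h5'

end Cfsg.Agent.OneComposite
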