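import Cfsg.Agent.Lib.OneComposite.Basic
import Cfsg.Agent.Lib.TwoPCent.Final
import Cfsg.Agent.Lib.GW.PartII.PartTwoFinal

/-!
# Simple groups with at most one composite element order

Without an involution commuting with a nontrivial element of odd order the group is CIT.  Otherwise
`2 p` is the only composite order; a Sylow 2-subgroup is elementary abelian, of order 4
(Gorenstein-Walter) since order at least 8 is excluded by `TwoPCent`.
-/

set_option autoImplicit false
set_option linter.style.haveILetI false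
set_option linter.unusedSectionVars false

namespace Cfsg.Agent.OneComposite

open scoped MatrixGroups

universe u

variable {G : Type u} [Group G] [Finite G] [IsSimpleGroup G]

/-- `PSL(2,q)`, `q` odd, whose only composite order is `2 p`. -/
theorem psl_odd (h : Sub1 G) (hG : ¬ IsMulCommutative G) {F : Type} [Field F] [iFt : Fintype F]
    (hodd : Odd (Fintype.card F)) (e : G ≃* PSL(2, F)) {p : ℕ} (hp : p.Prime) (hp2 : p ≠ 2)
    (hord : ∃ g : G, orderOf g = 2 * p) : Concl G := by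
  obtain ⟨c, hchar⟩ := CharP.exists F
  haveI := hchar
  obtain ⟨⟨k, hkpos⟩, hc, hk⟩ := FiniteField.card F c
  haveI : Fact c.Prime := ⟨hc⟩
  rw [PNat.mk_coe] at hk
  have h4 := four_le hG e
  obtain ⟨j, hj⟩ := hodd
  by_cases hsmall : Fintype.card F ≤ 13
  · have h15 : ∀ a : ℕ, a.Prime → a ∣ Fintype.card F → a = c := fun a ha hd =>
      (Nat.prime_dvd_prime_iff_eq ha hc).1 (ha.dvd_of_dvd_pow (hk ▸ hd))
    exact Or.inr (Or.inl ⟨F, inferInstance, iFt, by omega, ⟨e⟩⟩)
  have hd : Nat.gcd 2 (Fintype.card F - 1) = 2 := Nat.gcd_eq_left ⟨j, by omega⟩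
  have hA : (Fintype.card F - 1) / 2 = j := by omega
  have hB : (Fintype.card F + 1) / 2 = j + 1 := by omega
  have hex : ∀ m, (m ∣ j ∨ m ∣ j + 1) → ∃ x : PSL(2, F), orderOf x = m := fun m hm =>
    FiveOrbits.exists_orders h4 c m (Or.inr (by rw [hd, hA, hB]; exact hm))
  obtain ⟨g, hg⟩ := hord
  have hg1 : 1 < 2 * p := by have := hp.two_le; omega
  have hcomp : ∀ m, (m ∣ j ∨ m ∣ j + 1) → 1 < m → ¬ m.Prime → m = 2 * p := fun m hm h1 hm' =>
    h.eq_of_iso e (hex m hm) ⟨e g, by rw [e.orderOf_eq, hg]⟩ h1 hm' hg1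
      (Nat.not_prime_mul (by norm_num) hp.one_lt.ne')
  obtain ⟨O, E, hOodd, hEev, hOE⟩ : ∃ O E, Odd O ∧ Even E ∧
      ((O = j ∧ E = j + 1) ∨ (O = j + 1 ∧ E = j)) := by
    rcases Nat.even_or_odd j with hje | hjo
    · exact ⟨j + 1, j, hje.add_one, hje, Or.inr ⟨rfl, rfl⟩⟩
    · exact ⟨j, j + 1, hjo, hjo.add_one, Or.inl ⟨rfl, rfl⟩⟩
  have hdO : ∀ m, m ∣ O → m ∣ j ∨ m ∣ j + 1 := fun m hm => by
    rcases hOE with ⟨rfl, -⟩ | ⟨rfl, -⟩
    exacts [Or.inl hm, Or.inr hm]
  have hdE : ∀ m, m ∣ E → m ∣ j ∨ m ∣ j + 1 := fun m hm => by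
    rcases hOE with ⟨-, rfl⟩ | ⟨-, rfl⟩
    exacts [Or.inr hm, Or.inl hm]
  obtain ⟨o, ho⟩ := hOodd
  obtain ⟨E', hE'⟩ := hEev
  have hEp : E = 2 * p := hcomp E (hdE E dvd_rfl) (by omega) fun hEp => by
    have := (Nat.prime_dvd_prime_iff_eq Nat.prime_two hEp).1 ⟨E', by omega⟩
    omega
  have hOp : O.Prime := by
    by_contra hO
    have := hcomp O (hdO O dvd_rfl) (by omega) hO
    omega
  obtain ⟨t, ht⟩ := hp.odd_of_ne_two hp2
  -- the characteristic is 3
  have h3 : 3 ∣ Fintype.card F := by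
    by_contra h3
    have h3' : 3 ∣ O ∨ 3 ∣ E := by
      have hj3 : j % 3 ≠ 1 := fun e => h3 ⟨2 * (j / 3) + 1, by omega⟩
      rcases (show 3 ∣ j ∨ 3 ∣ j + 1 by clear * - hj3; omega) with hd3 | hd3 <;>
        rcases hOE with ⟨e1, e2⟩ | ⟨e1, e2⟩ <;>
        first | exact Or.inl (e1 ▸ hd3) | exact Or.inr (e2 ▸ hd3)
    rcases h3' with h3' | h3'
    · have := (Nat.prime_dvd_prime_iff_eq Nat.prime_three hOp).1 h3'
      omega
    · rw [hEp] at h3'
      rcases Nat.prime_three.dvd_mul.1 h3' with h3' | h3'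
      · norm_num at h3'
      · have := (Nat.prime_dvd_prime_iff_eq Nat.prime_three hp).1 h3'
        omega
  obtain rfl : 3 = c :=
    (Nat.prime_dvd_prime_iff_eq Nat.prime_three hc).1 (Nat.prime_three.dvd_of_dvd_pow (hk ▸ h3))
  rw [hk] at hj
  rcases Nat.even_or_odd k with ⟨i, hi⟩ | ⟨i, hi⟩
  · -- `8 ∣ q - 1`
    exfalso
    have h8 : 8 ∣ 3 ^ k - 1 := by
      have h1 := Nat.pow_mod 9 i 8
      norm_num at h1
      rw [hi, ← two_mul, pow_mul]
      norm_num
      omega
    rcases hOE with ⟨h1, h2⟩ | ⟨h1, h2⟩ <;> omega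
  have hmod : 3 ^ k % 4 = 3 := by
    have h1 := Nat.pow_mod 9 i 4
    norm_num at h1
    rw [hi, pow_succ, pow_mul]
    norm_num
    omega
  refine Or.inr (Or.inr (Or.inr (Or.inr (Or.inl
    ⟨F, inferInstance, iFt, k, O, p, hOp, hp, ?_, ?_, hk, ⟨e⟩⟩))))
  · rcases hOE with ⟨h1, h2⟩ | ⟨h1, h2⟩ <;> omega
  · rcases hOE with ⟨h1, h2⟩ | ⟨h1, h2⟩ <;> omega

/-- A composite order `2 p` and elementary abelian Sylow 2-subgroups. -/
theorem twoP_case (h : Sub1 G) (hG : ¬ IsMulCommutative G) {t x : G} (ht : orderOf t = 2)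
    (hxt : Commute x t) (hx : Odd (orderOf x)) (hx1 : x ≠ 1) : Concl G := by
  haveI : Fact (Nat.Prime 2) := ⟨Nat.prime_two⟩
  set p := orderOf x with hpdef
  have hp1 : 1 < p := lt_of_le_of_ne (orderOf_pos x) fun e => hx1 (orderOf_eq_one_iff.1 e.symm)
  have hdouble : ∀ s y : G, orderOf s = 2 → Commute y s → Odd (orderOf y) →
      orderOf (y * s) = 2 * orderOf y := fun s y hs hys hy => by
    rw [hys.orderOf_mul_eq_mul_orderOf_of_coprime (by rw [hs]; exact Nat.coprime_two_right.2 hy),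
      hs, mul_comm]
  have hg := hdouble t x ht hxt hx
  have hnp : ∀ m, 1 < m → ¬ (2 * m).Prime := fun m hm =>
    Nat.not_prime_mul (by norm_num) (by omega)
  have hord : ∀ y : G, y ≠ 1 → (orderOf y).Prime ∨ orderOf y = 2 * p := fun y hy => by
    refine or_iff_not_imp_left.2 fun hyp => ?_
    rw [← hg]
    exact h.eq (lt_of_le_of_ne (orderOf_pos y) fun e => hy (orderOf_eq_one_iff.1 e.symm)) hyp
      (by rw [hg]; omega) (by rw [hg]; exact hnp p hp1)
  have hp : p.Prime := by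
    rcases hord x hx1 with e | e
    · exact e
    · omega
  have hp2 : p ≠ 2 := fun e => by
    rw [e] at hx; exact absurd hx (by decide)
  obtain ⟨P⟩ : Nonempty (Sylow 2 G) := inferInstance
  have hsq : ∀ (S : Sylow 2 G) (y : G), y ∈ (S : Subgroup G) → y * y = 1 := fun S y hy => by
    by_cases hy1 : y = 1
    · rw [hy1, one_mul]
    obtain ⟨k, hk⟩ := IsPGroup.iff_orderOf.1 S.2 ⟨y, hy⟩
    rw [Subgroup.orderOf_mk] at hk
    rcases hord y hy1 with e | e
    · rw [← pow_two, ← (Nat.prime_dvd_prime_iff_eq e Nat.prime_two).1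
        (e.dvd_of_dvd_pow (dvd_of_eq hk)), pow_orderOf_eq_one]
    · exact absurd ((Nat.prime_dvd_prime_iff_eq hp Nat.prime_two).1
        (hp.dvd_of_dvd_pow (Dvd.intro_left 2 (e.symm.trans hk)))) hp2
  obtain ⟨i, hi⟩ := IsPGroup.iff_card.1 P.2
  rcases Nat.lt_or_ge i 3 with hi3 | hi3
  swap
  · refine (TwoPCent.Hyp.false (p := p) (P := P) ⟨inferInstance, hp, hp2, hsq P,
      hi ▸ le_trans (by norm_num) (Nat.pow_le_pow_right two_pos hi3), fun s y hs hys hy => ?_,
      fun y hpy => ?_, ⟨t, x, ht, hxt, rfl⟩⟩).elim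
    · by_cases hy1 : y = 1
      · rw [hy1, one_pow]
      have hy1' : 1 < orderOf y :=
        lt_of_le_of_ne (orderOf_pos y) fun e => hy1 (orderOf_eq_one_iff.1 e.symm)
      have h2 := hdouble s y hs hys hy
      have h3 : y * s ≠ 1 := fun e => by rw [e, orderOf_one] at h2; omega
      rcases hord _ h3 with e | e
      · exact absurd (h2 ▸ e) (hnp _ hy1')
      · rw [show p = orderOf y by omega, pow_orderOf_eq_one]
    · have hy1 : y ≠ 1 := fun e => by
        rw [e, orderOf_one] at hpy; exact hp.not_dvd_one hpy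
      rcases hord y hy1 with e | e
      · rw [← (Nat.prime_dvd_prime_iff_eq hp e).1 hpy]; exact dvd_mul_left p 2
      · rw [e]
  have h2G : 2 ∣ Nat.card G := ht ▸ orderOf_dvd_natCard t
  have hi2 : i = 2 := by
    rcases (show i = 0 ∨ i = 1 ∨ i = 2 by omega) with h' | h' | h'
    · exact absurd h' fun h' => P.ne_bot_of_dvd_card h2G
        (Subgroup.card_eq_one.1 (by rw [hi, h', pow_zero]))
    · exfalso
      subst h'
      obtain ⟨m, hm⟩ := h2G
      have hm2 : ¬ 2 ∣ m := fun h' => by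
        have := P.pow_dvd_card_of_pow_dvd_card (n := 2) (by rw [hm, pow_two]; exact mul_dvd_mul_left 2 h')
        rw [hi] at this
        exact absurd (Nat.le_of_dvd (by norm_num) this) (by norm_num)
      refine SmallSimple.false_of_min_exponent_one (G := G) Nat.prime_two hm ?_ fun r hr hrm =>
        lt_of_le_of_ne hr.two_le fun e => hm2 (e ▸ hrm)
      by_contra hm1
      have h2p := Nat.le_of_dvd (Nat.card_pos (α := G)) (hg ▸ orderOf_dvd_natCard (x * t))
      omega
    · exact h'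
  subst hi2
  have hd : GW.DihedralTwo G := fun S => by
    have hS4 : Nat.card (S : Subgroup G) = 4 := by
      rw [S.card_eq_multiplicity, ← P.card_eq_multiplicity, hi]; rfl
    haveI : Nontrivial (S : Subgroup G) := Finite.one_lt_card_iff_nontrivial.1 (by omega)
    haveI : IsKleinFour (S : Subgroup G) := ⟨hS4, Monoid.exponent_eq_prime_iff Nat.prime_two |>.2
      fun y hy => orderOf_eq_prime (by rw [pow_two]; exact Subtype.ext (hsq S y y.2)) hy⟩
    obtain ⟨e⟩ := IsKleinFour.nonempty_mulEquiv (G₁ := (S : Subgroup G)) (G₂ := DihedralGroup 2)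
    exact ⟨2, le_rfl, ⟨e⟩⟩
  rcases GW.isKnown_of_simple GW.partTwo G inferInstance hd with
    ⟨F, iF, iFt, hodd, -, ⟨e⟩⟩ | ⟨⟨e⟩⟩
  · exact psl_odd h hG hodd e hp hp2 ⟨_, hg⟩
  · exfalso
    let z : alternatingGroup (Fin 7) :=
      ⟨Equiv.swap (0 : Fin 7) 1 * Equiv.swap 1 2 * Equiv.swap 2 3 * Equiv.swap 4 5,
        Equiv.Perm.mem_alternatingGroup.2 (by decide)⟩
    have hz : orderOf z = 4 := FiveOrbits.orderOf_four _ (by decide) (by decide)
    have := h.eq_of_iso e ⟨z, hz⟩ ⟨e (x * t), by rw [e.orderOf_eq, hg]⟩ (by norm_num) (by norm_num)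
      (by omega) (hnp p hp1)
    obtain ⟨a, ha⟩ := hx
    omega

/-- **Simple groups with at most one composite element order.** -/
theorem main (h : Sub1 G) : Concl G := by
  by_cases hG : IsMulCommutative G
  · haveI := hG
    exact Or.inl (let _ : CommGroup G := { (inferInstance : Group G) with mul_comm := mul_comm' }
                  IsSimpleGroup.prime_card)
  have hne : ∃ a b : G, a * b ≠ b * a := by
    by_contra hno
    push Not at hno
    exact hG ⟨⟨hno⟩⟩
  by_cases hex : ∃ t x : G, orderOf t = 2 ∧ Commute x t ∧ Odd (orderOf x) ∧ x ≠ 1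
  · obtain ⟨t, x, ht, hxt, hx, hx1⟩ := hex
    exact twoP_case h hG ht hxt hx hx1
  push Not at hex
  have hCIT : CIT.IsCIT G := by
    intro t ht
    haveI : Fact (Nat.Prime 2) := ⟨Nat.prime_two⟩
    refine IsPGroup.of_card (Nat.eq_prime_pow_of_unique_prime_dvd Nat.card_pos.ne'
      fun {q} hq hd => ?_)
    haveI := Fact.mk hq
    obtain ⟨z, hz⟩ := exists_prime_orderOf_dvd_card' q hd
    rw [← Subgroup.orderOf_coe] at hz
    by_contra hq2
    have h1 := hex t z ht (Subgroup.mem_centralizer_singleton_iff.1 z.2)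
      (by rw [hz]; exact hq.odd_of_ne_two hq2)
    rw [h1, orderOf_one] at hz
    exact hq.one_lt.ne hz
  rcases CIT.classification_sz hne hCIT with ⟨F, iF, iFt, hq, ⟨e⟩⟩ | h' |
    ⟨F, iF, iFt, m, hm, hF, ⟨e⟩⟩
  · exact psl_cit h hG e hq
  · exact Or.inr (Or.inr (Or.inl h'))
  · exact sz_case h hm hF e

end Cfsg.Agent.OneComposite
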